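import Groth.Agent.Lib.PnChart
import Groth.Agent.PnCoh.Finite.HomTwist
import Mathlib.AlgebraicGeometry.Morphisms.ClosedImmersion
import Mathlib.AlgebraicGeometry.PullbackCarrier

/-!
# The coordinates of a morphism to projective space over a base, and the rings of its charts
-/

set_option autoImplicit false
set_option linter.style.haveILetI false
set_option linter.unusedSectionVars false
set_option backward.isDefEq.respectTransparency false
set_option backward.isDefEq.respectTransparency.types false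
set_option maxHeartbeats 1000000

universe u

open CategoryTheory CategoryTheory.Limits AlgebraicGeometry TopologicalSpace Opposite
open HomogeneousLocalization (Away)

noncomputable section

namespace Groth.Agent.BirBlow22

attribute [local instance] MvPolynomial.gradedAlgebra

/-- The global sections of a fibre product of affine schemes are generated by the two factors. -/
theorem gen_of_isPullback {P A B S : Scheme.{u}} {fst : P ⟶ A} {snd : P ⟶ B} {a : A ⟶ S} {b : B ⟶ S}
    [IsAffine A] [IsAffine B] [IsAffine S] (h : IsPullback fst snd a b) (T : Subring Γ(P, ⊤))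
    (hA : ∀ x, fst.appTop.hom x ∈ T) (hB : ∀ y, snd.appTop.hom y ∈ T) (z : Γ(P, ⊤)) : z ∈ T := by
  have hpo := isPushout_appTop_of_isPullback h
  let i : Γ(A, ⊤) ⟶ CommRingCat.of T := CommRingCat.ofHom (fst.appTop.hom.codRestrict T hA)
  let j : Γ(B, ⊤) ⟶ CommRingCat.of T := CommRingCat.ofHom (snd.appTop.hom.codRestrict T hB)
  have w : a.appTop ≫ i = b.appTop ≫ j := CommRingCat.hom_ext (RingHom.ext fun x => Subtype.ext
    (ConcreteCategory.congr_hom hpo.w x))
  have hid : hpo.desc i j w ≫ CommRingCat.ofHom T.subtype = 𝟙 _ :=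
    hpo.hom_ext (by rw [hpo.inl_desc_assoc, Category.comp_id]; rfl)
      (by rw [hpo.inr_desc_assoc, Category.comp_id]; rfl)
  have hz : (((hpo.desc i j w).hom z : T) : Γ(P, ⊤)) = z := ConcreteCategory.congr_hom hid z
  rw [← hz]
  exact ((hpo.desc i j w).hom z).2

variable {N : ℕ} {R : Type u} [CommRing R]

local notation "𝒢" => CohB1.polyGrading N R
local notation "T" => (MvPolynomial.X : Fin (N + 1) → MvPolynomial (Fin (N + 1)) R)

theorem a_eq_ratio (i k : Fin (N + 1)) :
    PnChart.a N R i k = PnCoh.Finite.ratio (ProjPt.X_mem i) (ProjPt.X_mem k) := by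
  refine Subtype.ext (funext fun x => HomogeneousLocalization.val_injective _ ?_)
  refine (ProjectiveSpectrum.Proj.awayToSection_apply 𝒢 (T i) (ProjPt.crd i k) x).trans
    (Eq.trans ?_ (PnCoh.Finite.ratio_val (ProjPt.X_mem i) (ProjPt.X_mem k) x).symm)
  rw [ProjPt.crd, Away.val_mk, Localization.mk_eq_mk', IsLocalization.map_mk']
  erw [← Localization.mk_eq_mk']
  rw [Localization.mk_eq_mk_iff, Localization.r_iff_exists]
  exact ⟨1, by simp⟩

theorem basicOpen_a_le (i k : Fin (N + 1)) :
    (CohB1.ProjSpace N R).basicOpen (PnChart.a N R i k) ≤ PnChart.D N R k := by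
  rw [a_eq_ratio]
  exact (PnCoh.Finite.basicOpen_ratio (ProjPt.X_mem i) (ProjPt.X_mem k)).trans_le inf_le_right

/-- The sections on a chart are generated by constants and coordinates. -/
theorem chart_mem (i : Fin (N + 1)) (U : Subring Γ(CohB1.ProjSpace N R, PnChart.D N R i))
    (hc : ∀ c, PnChart.str N R i c ∈ U) (ha : ∀ k, PnChart.a N R i k ∈ U)
    (z : Γ(CohB1.ProjSpace N R, PnChart.D N R i)) : z ∈ U := by
  haveI : IsIso (Proj.awayToSection 𝒢 (T i)) :=
    inferInstanceAs (IsIso (Proj.basicOpenIsoAway 𝒢 (T i) (ProjPt.X_mem i) Nat.one_pos).hom)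
  obtain ⟨y, rfl⟩ := (ConcreteCategory.bijective_of_isIso (Proj.awayToSection 𝒢 (T i))).2 z
  obtain ⟨p, rfl⟩ := (PnChart.poly_bijective N R i).2 y
  change ((Proj.awayToSection 𝒢 (T i)).hom.comp (PnChart.poly N R i)) p ∈ U
  induction p using MvPolynomial.induction_on with
  | C c =>
    rw [RingHom.comp_apply, PnChart.poly, MvPolynomial.eval₂Hom_C]
    exact (PnChart.str_eq N R i c) ▸ hc _
  | add p q hp hq => rw [map_add]; exact add_mem hp hq
  | mul_X p k hp =>
    rw [map_mul, RingHom.comp_apply _ _ (MvPolynomial.X k), PnChart.poly, MvPolynomial.eval₂Hom_X']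
    exact mul_mem hp (ha _)

variable {Z X : Scheme.{u}} (j : Z ⟶ CohB1.ProjSpace N R) (f : Z ⟶ X)

/-- The coordinate `x_m / x_l` on an open of the chart `l`. -/
def t {l : Fin (N + 1)} {W : Z.Opens} (h : W ≤ j ⁻¹ᵁ PnChart.D N R l) (m : Fin (N + 1)) : Γ(Z, W) :=
  (j.appLE (PnChart.D N R l) W h).hom (PnChart.a N R l m)

theorem t_self {l : Fin (N + 1)} {W : Z.Opens} (h : W ≤ j ⁻¹ᵁ PnChart.D N R l) : t j h l = 1 := by
  rw [t, PnChart.a_self, map_one]

theorem t_res {l : Fin (N + 1)} {W W' : Z.Opens} (h : W ≤ j ⁻¹ᵁ PnChart.D N R l) (e : W' ≤ W)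
    (m : Fin (N + 1)) : Z.presheaf.map (homOfLE e).op (t j h m) = t j (e.trans h) m := by
  rw [t, t, ← CommRingCat.comp_apply, Scheme.Hom.appLE_map]

theorem t_rel {l m : Fin (N + 1)} {W : Z.Opens} (hl : W ≤ j ⁻¹ᵁ PnChart.D N R l)
    (hm : W ≤ j ⁻¹ᵁ PnChart.D N R m) (p : Fin (N + 1)) : t j hl p = t j hl m * t j hm p := by
  have hlm : W ≤ j ⁻¹ᵁ (PnChart.D N R l ⊓ PnChart.D N R m) := fun z hz => ⟨hl hz, hm hz⟩
  have h := congrArg (j.appLE _ W hlm).hom
    (PnChart.a_rel N R l m p (inf_le_left : PnChart.D N R l ⊓ PnChart.D N R m ≤ _) inf_le_right)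
  rw [map_mul] at h
  simp only [AModX.resR, ← CommRingCat.comp_apply, Scheme.Hom.map_appLE] at h
  exact h

theorem basicOpen_t_le {l : Fin (N + 1)} {W : Z.Opens} (h : W ≤ j ⁻¹ᵁ PnChart.D N R l)
    (m : Fin (N + 1)) : Z.basicOpen (t j h m) ≤ j ⁻¹ᵁ PnChart.D N R m := by
  rw [t, Scheme.Hom.appLE, CommRingCat.comp_apply]
  rw [Scheme.basicOpen_res, ← Scheme.preimage_basicOpen]
  exact inf_le_right.trans fun z hz => basicOpen_a_le l m hz

/-- The trace of the chart `l` over `V`. -/
abbrev Zl (V : X.Opens) (l : Fin (N + 1)) : Z.Opens := j ⁻¹ᵁ PnChart.D N R l ⊓ f ⁻¹ᵁ V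

theorem isAffineOpen_and_surjective (gX : X ⟶ Spec (CommRingCat.of R))
    (w : j ≫ CohB1.ProjSpace.toSpec N R = f ≫ gX) [IsClosedImmersion (pullback.lift j f w)]
    {V : X.Opens} (hV : IsAffineOpen V) (l : Fin (N + 1)) :
    IsAffineOpen (Zl j f V l) ∧
      Function.Surjective (MvPolynomial.eval₂Hom (f.appLE V (Zl j f V l) inf_le_right).hom
        (fun m => t j (inf_le_left : Zl j f V l ≤ _) m)) := by
  let D := PnChart.D N R l
  let W := Zl j f V l
  let π := CohB1.ProjSpace.toSpec N R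
  haveI : IsAffine D.toScheme := PnChart.isAffineOpen_D N R l
  haveI : IsAffine V.toScheme := hV
  let Q := pullback (D.ι ≫ π) (V.ι ≫ gX)
  let e := pullback.lift j f w
  let jl := j.resLE D W inf_le_left
  let fl := f.resLE V W inf_le_right
  let m : Q ⟶ pullback π gX := pullback.map (D.ι ≫ π) (V.ι ≫ gX) π gX D.ι V.ι (𝟙 _)
    (by rw [Category.comp_id]) (by rw [Category.comp_id])
  have hw : jl ≫ D.ι ≫ π = fl ≫ V.ι ≫ gX := by
    rw [Scheme.Hom.resLE_comp_ι_assoc, Scheme.Hom.resLE_comp_ι_assoc, w]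
  let c : W.toScheme ⟶ Q := pullback.lift jl fl hw
  have hcomm : W.ι ≫ e = c ≫ m := by
    apply pullback.hom_ext
    · rw [Category.assoc, Category.assoc, pullback.lift_fst, pullback.lift_fst,
        pullback.lift_fst_assoc, Scheme.Hom.resLE_comp_ι]
    · rw [Category.assoc, Category.assoc, pullback.lift_snd, pullback.lift_snd,
        pullback.lift_snd_assoc, Scheme.Hom.resLE_comp_ι]
  haveI : IsOpenImmersion m := inferInstance
  have hrange : e ⁻¹ᵁ m.opensRange = W.ι.opensRange := by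
    rw [Scheme.Opens.opensRange_ι]
    refine Opens.ext (Set.ext fun z => ?_)
    show e z ∈ Set.range m ↔ _
    have h1 : pullback.fst π gX (e z) = j z := by rw [← Scheme.Hom.comp_apply, pullback.lift_fst]
    have h2 : pullback.snd π gX (e z) = f z := by rw [← Scheme.Hom.comp_apply, pullback.lift_snd]
    rw [Scheme.Pullback.range_map, Scheme.Opens.range_ι, Scheme.Opens.range_ι]
    simp only [Set.mem_inter_iff, Set.mem_preimage, h1, h2]
    exact Iff.rfl
  have hpb : IsPullback c W.ι m e := IsOpenImmersion.isPullback c W.ι m e hcomm hrange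
  haveI : IsClosedImmersion c := MorphismProperty.of_isPullback (P := @IsClosedImmersion) hpb.flip ‹_›
  haveI : IsAffine Q := inferInstance
  have hW : IsAffineOpen W := isAffine_of_isAffineHom c
  refine ⟨hW, fun z => ?_⟩
  let ev := MvPolynomial.eval₂Hom (f.appLE V W inf_le_right).hom
        (fun m => t j (inf_le_left : W ≤ _) m)
  let S := (ev.range).comap W.topIso.hom.hom
  have hj : ∀ x, (j.appLE D W inf_le_left).hom x ∈ ev.range := by
    refine fun x => chart_mem l (ev.range.comap (j.appLE D W inf_le_left).hom) (fun c => ?_) (fun k => ?_) x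
    · refine ⟨MvPolynomial.C ((gX.appLE ⊤ V le_top).hom c), ?_⟩
      rw [MvPolynomial.eval₂Hom_C, PnChart.str, ← CommRingCat.comp_apply, ← CommRingCat.comp_apply,
        Scheme.Hom.appLE_comp_appLE, Scheme.Hom.appLE_comp_appLE]
      simp only [w]
    · exact ⟨MvPolynomial.X k, MvPolynomial.eval₂Hom_X' _ _ k⟩
  have hall : ∀ y : Γ(W.toScheme, ⊤), W.topIso.hom.hom y ∈ ev.range := by
    intro y
    obtain ⟨q, rfl⟩ := c.app_surjective ⊤ (isAffineOpen_top Q) y
    refine gen_of_isPullback (IsPullback.of_hasPullback (D.ι ≫ π) (V.ι ≫ gX))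
      ((ev.range.comap W.topIso.hom.hom).comap c.appTop.hom) (fun x => ?_) (fun x => ?_) q
    · show W.topIso.hom.hom (((pullback.fst (D.ι ≫ π) (V.ι ≫ gX)).appTop ≫ c.appTop).hom x) ∈ ev.range
      rw [← Scheme.Hom.comp_appTop, pullback.lift_fst, Scheme.Hom.appTop, Scheme.Hom.resLE_app_top,
        CommRingCat.comp_apply, CommRingCat.comp_apply, Iso.inv_hom_id_apply]
      exact hj _
    · show W.topIso.hom.hom (((pullback.snd (D.ι ≫ π) (V.ι ≫ gX)).appTop ≫ c.appTop).hom x) ∈ ev.range
      rw [← Scheme.Hom.comp_appTop, pullback.lift_snd, Scheme.Hom.appTop, Scheme.Hom.resLE_app_top,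
        CommRingCat.comp_apply, CommRingCat.comp_apply, Iso.inv_hom_id_apply]
      exact ⟨MvPolynomial.C _, MvPolynomial.eval₂Hom_C _ _ _⟩
  have := hall (W.topIso.inv.hom z)
  rwa [Iso.inv_hom_id_apply] at this

end Groth.Agent.BirBlow22
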