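import Groth.Agent.BirBlow22.Local
import Groth.Agent.BlowUpLib.Glue
import Groth.Agent.AmpleX.Basis
import Groth.Agent.AmpleX.Separated
import Groth.Agent.ZeroSchX.Basic
import Groth.Agent.H23.StalkIdeal
import Mathlib.AlgebraicGeometry.FunctionField

/-!
# Birational morphisms that are projective over a base with an ample module are blowings up
-/

set_option autoImplicit false
set_option linter.style.haveILetI false
set_option linter.unusedSectionVars false
set_option backward.isDefEq.respectTransparency false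
set_option backward.isDefEq.respectTransparency.types false
set_option maxHeartbeats 1000000

universe u

open CategoryTheory CategoryTheory.Limits AlgebraicGeometry TopologicalSpace Opposite

noncomputable section

namespace Groth.Agent.BirBlow22

variable {N : ℕ} {R : Type u} [CommRing R] {Z X : Scheme.{u}} [IsIntegral Z] [IsIntegral X]

/-- The value of a germ at the generic point. -/
abbrev toFF {U : X.Opens} (hU : genericPoint X ∈ U) : Γ(X, U) →+* X.functionField :=
  (X.presheaf.germ U (genericPoint X) hU).hom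

omit [IsIntegral Z] in
theorem toFF_res {U V : X.Opens} (h : V ≤ U) (hV : genericPoint X ∈ V) (b : Γ(X, U)) :
    toFF hV (X.presheaf.map (homOfLE h).op b) = toFF (h hV) b :=
  TopCat.Presheaf.germ_res_apply _ _ _ _ _

omit [IsIntegral Z] in
theorem genericPoint_mem {U : X.Opens} {x : X} (hx : x ∈ U) : genericPoint X ∈ U :=
  ((genericPoint_spec X).specializes trivial).mem_open U.2 hx

variable (f : Z ⟶ X) (hη : f (genericPoint Z) = genericPoint X)

/-- The map of function fields. -/
def φ : X.functionField →+* Z.functionField :=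
  ((X.presheaf.stalkCongr (.of_eq hη.symm)).hom ≫ f.stalkMap (genericPoint Z)).hom

theorem φ_toFF {U : X.Opens} {W : Z.Opens} (e : W ≤ f ⁻¹ᵁ U) (hU : genericPoint X ∈ U)
    (hW : genericPoint Z ∈ W) (b : Γ(X, U)) :
    φ f hη (toFF hU b) = toFF hW ((f.appLE U W e).hom b) := by
  show (f.stalkMap (genericPoint Z)).hom ((X.presheaf.stalkCongr (.of_eq hη.symm)).hom
    (X.presheaf.germ U _ hU b)) = Z.presheaf.germ W _ hW ((f.appLE U W e).hom b)
  rw [TopCat.Presheaf.stalkCongr_hom, TopCat.Presheaf.germ_stalkSpecializes_apply,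
    Scheme.Hom.germ_stalkMap_apply, Scheme.Hom.appLE, CommRingCat.comp_apply,
    TopCat.Presheaf.germ_res_apply]

theorem φ_bijective (hb : Function.Bijective (f.stalkMap (genericPoint Z)).hom) :
    Function.Bijective (φ f hη) :=
  hb.comp (ConcreteCategory.bijective_of_isIso (X.presheaf.stalkCongr (.of_eq hη.symm)).hom)

omit [IsIntegral Z] in
theorem toFF_injective {U : X.Opens} (hU : genericPoint X ∈ U) : Function.Injective (toFF hU) :=
  germ_injective_of_isIntegral _ _ hU

/-- A twisted principal ideal of a stalk. -/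
def S (E : X.IdealSheafData) (k : ℕ) (F : X.functionField) (x : X) : Ideal (X.presheaf.stalk x) where
  carrier := {r | ∃ h ∈ H23.StalkIdeal.sI E x ^ k,
    algebraMap _ X.functionField r = F * algebraMap _ X.functionField h}
  zero_mem' := ⟨0, Ideal.zero_mem _, by rw [map_zero, mul_zero]⟩
  add_mem' := fun {r r'} ⟨h, hh, e⟩ ⟨h', hh', e'⟩ => ⟨h + h', Ideal.add_mem _ hh hh', by
    rw [map_add, map_add, e, e', mul_add]⟩
  smul_mem' := fun c r ⟨h, hh, e⟩ => ⟨c * h, Ideal.mul_mem_left _ _ hh, by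
    rw [smul_eq_mul, map_mul, map_mul, e, mul_left_comm]⟩

omit [IsIntegral Z] in
theorem algebraMap_germ {U : X.Opens} {x : X} (hx : x ∈ U) (b : Γ(X, U)) :
    algebraMap (X.presheaf.stalk x) X.functionField (X.presheaf.germ U x hx b) =
      toFF (genericPoint_mem hx) b := by
  rw [RingHom.algebraMap_toAlgebra]
  exact TopCat.Presheaf.germ_stalkSpecializes_apply X.presheaf hx _ b

omit [IsIntegral Z] in
theorem gen_S (E : X.IdealSheafData) (k : ℕ) (F : X.functionField) (V : X.affineOpens) (c : Γ(X, V.1))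
    (hc : E.ideal V = Ideal.span {c}) (a : Γ(X, V.1)) (hV : genericPoint X ∈ V.1)
    (ha : toFF hV a = F * toFF hV c ^ k) : H23.StalkIdeal.Gen (S E k F) V a := by
  intro y hy
  have hpow : H23.StalkIdeal.sI E y ^ k = Ideal.span {X.presheaf.germ V.1 y hy c ^ k} := by
    rw [H23.StalkIdeal.sI_eq E V hy, CDivEq.stk, hc, Ideal.map_span, Set.image_singleton,
      Ideal.span_singleton_pow]
  ext r
  show (∃ h ∈ H23.StalkIdeal.sI E y ^ k, _) ↔ _
  rw [hpow, Ideal.mem_span_singleton']
  constructor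
  · rintro ⟨h, hh, e⟩
    obtain ⟨d, rfl⟩ := Ideal.mem_span_singleton'.1 hh
    refine ⟨d, IsFractionRing.injective (X.presheaf.stalk y) X.functionField ?_⟩
    rw [e, map_mul, map_mul, map_pow, algebraMap_germ, algebraMap_germ, ha]
    ring
  · rintro ⟨d, rfl⟩
    refine ⟨d * X.presheaf.germ V.1 y hy c ^ k, Ideal.mem_span_singleton'.2 ⟨d, rfl⟩, ?_⟩
    rw [map_mul, map_mul, map_pow, algebraMap_germ, algebraMap_germ, ha]
    ring

omit [IsIntegral Z] in
/-- Near every point: a generator of the twisting ideal clearing all denominators. -/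
theorem exists_denominator (L : X.Modules) (hL : PicF.IsInvertible L) (s : Coh.structureModule X ⟶ L)
    (hs : genericPoint X ∈ CohB1.genLocus L s) (F : Fin (N + 1) → X.functionField)
    (O : Fin (N + 1) → X.Opens) (hO : ∀ m, CohB1.genLocus L s ≤ O m)
    (σ : ∀ m, Γ(X, O m)) (hσ : ∀ m, toFF (hO m hs) (σ m) = F m) (x : X) :
    ∃ (V : X.affineOpens) (c : Γ(X, V.1)) (hxV : x ∈ V.1) (n : ℕ),
      (PicF2.zeroScheme L s).ideal V = Ideal.span {c} ∧ c ≠ 0 ∧
        ∀ m k, n ≤ k → ∃ a, toFF (genericPoint_mem hxV) a = F m * toFF (genericPoint_mem hxV) c ^ k := by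
  obtain ⟨U, hxU, e, he⟩ := InvX.exists_frame hL x
  obtain ⟨_, ⟨V, hV, rfl⟩, hxV, hle⟩ :=
    X.isBasis_affineOpens.exists_subset_of_mem_open (show x ∈ U from hxU) U.2
  have he' := he.res (show V ≤ U from hle)
  obtain ⟨c, hc⟩ := he'.exists_coord le_rfl (ZeroSchX.sv s V)
  rw [AModX.res_self] at hc
  have hbo : CohB1.genLocus L s ⊓ V = X.basicOpen c :=
    InvX.genLocus_inf s he' ((show _ = ZeroSchX.sv s V from ZeroSchX.res_sv s le_top).trans hc)
  have hηV : genericPoint X ∈ V := genericPoint_mem hxV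
  have hηc : genericPoint X ∈ X.basicOpen c := hbo ▸ ⟨hs, hηV⟩
  have hc0 : c ≠ 0 := fun h => by
    rw [h, Scheme.basicOpen_zero] at hηc
    exact hηc
  haveI := hV.isLocalization_basicOpen c
  have hb : ∀ m, ∃ (n : ℕ) (b : Γ(X, V)), toFF hηV b = F m * toFF hηV c ^ n := fun m => by
    have hle' : X.basicOpen c ≤ O m := hbo ▸ inf_le_left.trans (hO m)
    obtain ⟨⟨b, ⟨_, n, rfl⟩⟩, hbn⟩ := IsLocalization.surj (Submonoid.powers c)
      (X.presheaf.map (homOfLE hle').op (σ m) : Γ(X, X.basicOpen c))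
    refine ⟨n, b, ?_⟩
    have h := congrArg (toFF hηc) hbn
    rw [map_mul, toFF_res hle', hσ] at h
    simp only [RingHom.algebraMap_toAlgebra] at h
    erw [toFF_res (X.basicOpen_le c) hηc, toFF_res (X.basicOpen_le c) hηc] at h
    rw [map_pow] at h
    exact h.symm
  choose n b hb using hb
  refine ⟨⟨V, hV⟩, c, hxV, Finset.univ.sup n, ?_, hc0, fun m k hk => ?_⟩
  · rw [ZeroSchX.ideal_zeroScheme hL]
    exact ZeroSchX.zeroIdealOn_eq_span s he' hc
  · obtain ⟨d, rfl⟩ := Nat.exists_eq_add_of_le ((Finset.le_sup (Finset.mem_univ m)).trans hk)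
    exact ⟨b m * c ^ d, by rw [map_mul, map_pow, hb, pow_add, mul_assoc]⟩

variable {f}

/-- The ideal. -/
theorem exists_ideal (M : X.Modules) (hM : CohB1.IsAmple M) (j : Z ⟶ CohB1.ProjSpace N R)
    (gX : X ⟶ Spec (CommRingCat.of R)) (w : j ≫ CohB1.ProjSpace.toSpec N R = f ≫ gX)
    [IsClosedImmersion (pullback.lift j f w)] (hη : f (genericPoint Z) = genericPoint X)
    (hbij : Function.Bijective (f.stalkMap (genericPoint Z)).hom) :
    ∃ I : X.IdealSheafData, BlowUp.IsBlowUp f I := by
  haveI := AmpleX.isSeparated_of_isAmple hM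
  haveI : CompactSpace X := hM.2.1
  have hφ := φ_bijective f hη hbij
  obtain ⟨l₀, hl₀⟩ := PnChart.exists_mem_D N R (j (genericPoint Z))
  choose F hF using fun m => hφ.2 (toFF (U := j ⁻¹ᵁ PnChart.D N R l₀) hl₀ (t j le_rfl m))
  choose O hηO σ hσ using fun m => TopCat.Presheaf.exists_germ_eq X.presheaf (F m)
  obtain ⟨n₀, -, s, hs, hsle, -⟩ := AmpleX.exists_genLocus_le hM (x := genericPoint X)
    (U := ⟨⋂ m, (O m : Set X), isOpen_iInter_of_finite fun m => (O m).2⟩) (Set.mem_iInter.2 hηO)
  let L := CohB1.tensorPow M n₀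
  have hL : PicF.IsInvertible L := InvX.isInvertible_tensorPow hM.1 n₀
  have hO : ∀ m, CohB1.genLocus L s ≤ O m := fun m x hx => Set.mem_iInter.1 (hsle hx) m
  choose V c hxV n hideal hc0 ha using exists_denominator (N := N) L hL s hs F O hO σ hσ
  obtain ⟨T, hT⟩ := isCompact_univ.elim_finite_subcover (fun x => ((V x).1 : Set X))
    (fun x => (V x).1.2) fun x _ => Set.mem_iUnion.2 ⟨x, hxV x⟩
  let k := T.sup n
  let E := PicF2.zeroScheme L s
  choose a ha using fun (x : T) m => ha x.1 m k (Finset.le_sup x.2)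
  have hcov : ∀ y, ∃ x : T, y ∈ (V x.1).1 := fun y => by
    obtain ⟨x, hxT, hy⟩ := Set.mem_iUnion₂.1 (hT (Set.mem_univ y))
    exact ⟨⟨x, hxT⟩, hy⟩
  have hgen : ∀ (x : T) m, H23.StalkIdeal.Gen (S E k (F m)) (V x.1) (a x m) := fun x m =>
    gen_S E k (F m) (V x.1) (c x.1) (hideal x.1) (a x m) _ (ha x m)
  have hS : ∀ m, ∀ y : X, ∃ (U : X.affineOpens) (b : Γ(X, U.1)), y ∈ U.1 ∧
      H23.StalkIdeal.Gen (S E k (F m)) U b := fun m y => by
    obtain ⟨x, hy⟩ := hcov y
    exact ⟨V x.1, a x m, hy, hgen x m⟩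
  let C : X.IdealSheafData := ⨆ m, H23.StalkIdeal.ofStalks (S E k (F m)) (hS m)
  have hC : ∀ x : T, C.ideal (V x.1) = Ideal.span (Set.range (a x)) := fun x => by
    simp only [C, Scheme.IdealSheafData.ideal_iSup, iSup_apply,
      H23.StalkIdeal.ofStalks_ideal (hS _) (hgen x _)]
    exact (Submodule.span_range_eq_iSup).symm
  have hfield : ∀ {W : Z.Opens} {U : X.Opens} (e : W ≤ f ⁻¹ᵁ U) (_ : genericPoint Z ∈ W)
      (hU : genericPoint X ∈ U) (b : Γ(X, U)), φ f hη (toFF hU b) =
        Z.presheaf.germ W _ ‹_› ((f.appLE U W e).hom b) := fun e hW hU b => φ_toFF f hη e hU hW b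
  have hτ : ∀ (l m : Fin (N + 1)) (W : Z.Opens) (hl : W ≤ j ⁻¹ᵁ PnChart.D N R l) (hW : genericPoint Z ∈ W),
      φ f hη (F m) = φ f hη (F l) * toFF hW (t j hl m) := fun l m W hl hW => by
    have hi : genericPoint Z ∈ j ⁻¹ᵁ PnChart.D N R l₀ ⊓ W := ⟨hl₀, hW⟩
    rw [hF, hF, ← toFF_res (inf_le_left) hi, ← toFF_res (inf_le_left) hi,
      ← toFF_res (inf_le_right) hi (t j hl m), t_res, t_res, t_res, ← map_mul]
    exact congrArg _ (t_rel j inf_le_left (inf_le_right.trans hl) m)
  let D : ∀ x : T, LocalData j f C (V x.1) := fun x =>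
    have hηV : genericPoint X ∈ (V x.1).1 := genericPoint_mem (hxV x.1)
    { a := a x
      ideal_eq := hC x
      isAffineOpen := fun l => (isAffineOpen_and_surjective j f gX w (V x.1).2 l).1
      surjective := fun l => (isAffineOpen_and_surjective j f gX w (V x.1).2 l).2
      rel := fun l m => by
        rcases isEmpty_or_nonempty (Zl j f (V x.1).1 l) with hE | ⟨⟨z, hz⟩⟩
        · haveI : Subsingleton Γ(Z, Zl j f (V x.1).1 l) := by
            have : Zl j f (V x.1).1 l = ⊥ := Opens.ext (Set.eq_empty_iff_forall_notMem.2 fun z hz => hE.false ⟨z, hz⟩)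
            rw [this]
            infer_instance
          exact Subsingleton.elim _ _
        · have hW : genericPoint Z ∈ Zl j f (V x.1).1 l := genericPoint_mem hz
          refine toFF_injective hW ?_
          rw [map_mul, ← φ_toFF f hη _ hηV hW, ← φ_toFF f hη _ hηV hW, ha, ha, map_mul, map_mul,
            hτ l m _ inf_le_left hW]
          ring
      injective := fun l ⟨⟨z, hz⟩⟩ => by
        have hW : genericPoint Z ∈ Zl j f (V x.1).1 l := genericPoint_mem hz
        refine fun b b' hbb' => toFF_injective hηV (hφ.1 ?_)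
        rw [φ_toFF f hη inf_le_right hηV hW, φ_toFF f hη inf_le_right hηV hW, hbb']
      eq_zero := fun l hE => by
        refine toFF_injective hηV ?_
        rw [ha, map_zero]
        by_cases hFl : F l = 0
        · rw [hFl, zero_mul]
        · exfalso
          have hu : IsUnit (toFF (U := j ⁻¹ᵁ PnChart.D N R l₀) hl₀ (t j le_rfl l)) := by
            rw [← hF]
            exact (IsUnit.mk0 _ hFl).map _
          have hmem : genericPoint Z ∈ Z.basicOpen (t j (le_refl (j ⁻¹ᵁ PnChart.D N R l₀)) l) :=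
            (Z.mem_basicOpen _ _ hl₀).2 hu
          refine hE.false ⟨genericPoint Z, basicOpen_t_le j _ l hmem, ?_⟩
          show f (genericPoint Z) ∈ (V x.1).1
          rw [hη]
          exact hηV
      ne_bot := fun hbot => by
        have hmem : a x l₀ ∈ C.ideal (V x.1) := hC x ▸ Ideal.subset_span ⟨l₀, rfl⟩
        rw [hbot, Ideal.mem_bot] at hmem
        have hF1 : F l₀ = 1 := hφ.1 (by rw [hF, t_self, map_one, map_one])
        have h := ha x l₀
        rw [hmem, map_zero, hF1, one_mul] at h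
        exact hc0 x.1 (toFF_injective hηV ((eq_zero_of_pow_eq_zero h.symm).trans (map_zero _).symm)) }
  refine ⟨C, BlowUpLib.isBlowUp_of_local (ι := T) (fun x => (V x.1).1.ι) (fun y => ?_)
    (fun x => f ∣_ (V x.1).1) (fun x => (f ⁻¹ᵁ (V x.1).1).ι)
    (fun x => isPullback_morphismRestrict f _) (fun x => (D x).isBlowUp)⟩
  obtain ⟨x, hy⟩ := hcov y
  exact ⟨x, ⟨y, hy⟩, rfl⟩

end Groth.Agent.BirBlow22
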