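import Groth.Agent.BirBlow22.Gen
import Groth.Agent.BlowUpLib.Local

/-!
# The universal property of the projective model cut out by a family of functions
-/

set_option autoImplicit false
set_option linter.style.haveILetI false
set_option linter.unusedSectionVars false
set_option backward.isDefEq.respectTransparency false
set_option backward.isDefEq.respectTransparency.types false
set_option maxHeartbeats 1000000

universe u

open CategoryTheory CategoryTheory.Limits AlgebraicGeometry TopologicalSpace Opposite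

noncomputable section

namespace Groth.Agent.BirBlow22

section Alg

variable {A B : Type u} [CommRing A] [CommRing B] {ι : Type} (a : ι → A) (l : ι)

/-- Dehomogenised relations clear their denominators. -/
theorem homog (P : MvPolynomial ι A) : ∃ (d : ℕ) (Q : A), ∀ (S : Type u) [CommRing S] (φ : A →+* S)
    (v : ι → S), (∀ m, φ (a m) = v m * φ (a l)) →
      φ (a l) ^ d * MvPolynomial.eval₂Hom φ v P = φ Q := by
  induction P using MvPolynomial.induction_on with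
  | C c => exact ⟨0, c, fun S _ φ v _ => by rw [pow_zero, one_mul, MvPolynomial.eval₂Hom_C]⟩
  | add P P' hP hP' =>
    obtain ⟨d, Q, hQ⟩ := hP
    obtain ⟨d', Q', hQ'⟩ := hP'
    refine ⟨d + d', a l ^ d' * Q + a l ^ d * Q', fun S _ φ v h => ?_⟩
    rw [map_add, map_add, map_mul, map_mul, map_pow, map_pow, ← hQ S φ v h, ← hQ' S φ v h]
    ring
  | mul_X P k hP =>
    obtain ⟨d, Q, hQ⟩ := hP
    refine ⟨d + 1, Q * a k, fun S _ φ v h => ?_⟩
    rw [map_mul, MvPolynomial.eval₂Hom_X', map_mul, ← hQ S φ v h, h k]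
    ring

variable {S : Type u} [CommRing S]

/-- The universal property of a ring generated by the fractions `a m / a l`. -/
theorem exists_factor (φ : A →+* B) (v : ι → B) (hs : Function.Surjective (MvPolynomial.eval₂Hom φ v))
    (hi : Function.Injective φ) (hv : ∀ m, φ (a m) = v m * φ (a l)) (ψ : A →+* S) (w : ι → S)
    (hw : ∀ m, ψ (a m) = w m * ψ (a l)) (hz : ψ (a l) ∈ nonZeroDivisors S) :
    ∃ χ : B →+* S, χ.comp φ = ψ := by
  let ev := MvPolynomial.eval₂Hom φ v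
  let ev' := MvPolynomial.eval₂Hom ψ w
  have hk : RingHom.ker ev ≤ RingHom.ker ev' := fun P hP => by
    obtain ⟨d, Q, hQ⟩ := homog a l P
    have h1 := hQ B φ v hv
    rw [show MvPolynomial.eval₂Hom φ v P = 0 from hP, mul_zero] at h1
    have h2 := hQ S ψ w hw
    rw [hi (h1.symm.trans (map_zero φ).symm), map_zero] at h2
    exact mul_left_mem_nonZeroDivisors_eq_zero_iff (pow_mem hz d) |>.1 h2
  refine ⟨ev.liftOfSurjective hs ⟨ev', hk⟩, RingHom.ext fun c => ?_⟩
  rw [RingHom.comp_apply, ← MvPolynomial.eval₂Hom_C φ v c]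
  exact (ev.liftOfRightInverse_comp_apply _ _ _ _).trans (MvPolynomial.eval₂Hom_C ψ w c)

theorem hom_ext_gen (φ : A →+* B) (v : ι → B) (hs : Function.Surjective (MvPolynomial.eval₂Hom φ v))
    (hv : ∀ m, φ (a m) = v m * φ (a l)) (ψ : A →+* S) (hz : ψ (a l) ∈ nonZeroDivisors S)
    {χ χ' : B →+* S} (h : χ.comp φ = ψ) (h' : χ'.comp φ = ψ) : χ = χ' := by
  have hm : ∀ m, χ (v m) = χ' (v m) := fun m => by
    refine (mul_cancel_right_mem_nonZeroDivisors hz).1 ?_
    calc χ (v m) * ψ (a l) = χ (φ (a m)) := by rw [← h, RingHom.comp_apply, ← map_mul, ← hv]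
      _ = χ' (φ (a m)) := (RingHom.congr_fun (h.trans h'.symm) (a m))
      _ = χ' (v m) * ψ (a l) := by rw [← h', RingHom.comp_apply, ← map_mul, ← hv]
  refine RingHom.ext fun z => ?_
  obtain ⟨P, rfl⟩ := hs z
  refine RingHom.congr_fun (f := χ.comp (MvPolynomial.eval₂Hom φ v)) (g := χ'.comp _)
    (MvPolynomial.ringHom_ext (fun c => ?_) fun m => ?_) P
  · simp only [RingHom.comp_apply, MvPolynomial.eval₂Hom_C]
    exact RingHom.congr_fun (h.trans h'.symm) c
  · simp only [RingHom.comp_apply, MvPolynomial.eval₂Hom_X']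
    exact hm m

end Alg

variable {N : ℕ} {R : Type u} [CommRing R] {Z X : Scheme.{u}}
  (j : Z ⟶ CohB1.ProjSpace N R) (f : Z ⟶ X)

/-- What the universal property needs over the affine open `V`. -/
structure LocalData (C : X.IdealSheafData) (V : X.affineOpens) where
  a : Fin (N + 1) → Γ(X, V.1)
  ideal_eq : C.ideal V = Ideal.span (Set.range a)
  isAffineOpen : ∀ l, IsAffineOpen (Zl j f V.1 l)
  surjective : ∀ l, Function.Surjective (MvPolynomial.eval₂Hom (f.appLE V.1 (Zl j f V.1 l) inf_le_right).hom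
    (fun m => t j (inf_le_left : Zl j f V.1 l ≤ _) m))
  rel : ∀ l m, (f.appLE V.1 (Zl j f V.1 l) inf_le_right).hom (a m) =
    t j (inf_le_left : Zl j f V.1 l ≤ _) m * (f.appLE V.1 (Zl j f V.1 l) inf_le_right).hom (a l)
  injective : ∀ l, Nonempty (Zl j f V.1 l) →
    Function.Injective (f.appLE V.1 (Zl j f V.1 l) inf_le_right).hom
  eq_zero : ∀ l, IsEmpty (Zl j f V.1 l) → a l = 0
  ne_bot : C.ideal V ≠ ⊥

variable {j f} {C : X.IdealSheafData} {V : X.affineOpens} (D : LocalData j f C V)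
variable {Y : Scheme.{u}}

namespace LocalData

/-- On `W` the ideal is generated by the pullback of `a l`. -/
def Good (G : Y ⟶ X) (hG : G ⁻¹ᵁ V.1 = ⊤) (W : Y.affineOpens) (l : Fin (N + 1)) : Prop :=
  (C.comap G).ideal W = Ideal.span {(G.appLE V.1 W.1 (le_top.trans hG.ge)).hom (D.a l)}

variable {D} {G : Y ⟶ X} {hG : G ⁻¹ᵁ V.1 = ⊤}

theorem Good.res {W W' : Y.affineOpens} {l : Fin (N + 1)} (h : D.Good G hG W l) (e : W'.1 ≤ W.1) :
    D.Good G hG W' l := by
  unfold Good at h ⊢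
  rw [← (C.comap G).map_ideal (U := W') (V := W) e, h, Ideal.map_span, Set.image_singleton,
    ← CommRingCat.comp_apply, Scheme.Hom.appLE_map]

theorem Good.mem_nzd (hC : BlowUp.IsEffCartierIdeal (C.comap G)) {W : Y.affineOpens} {l : Fin (N + 1)}
    (h : D.Good G hG W l) :
    (G.appLE V.1 W.1 (le_top.trans hG.ge)).hom (D.a l) ∈ nonZeroDivisors Γ(Y, W.1) :=
  ModPairLib.generator_mem_nonZeroDivisors hC h

theorem Good.exists_coeff {W : Y.affineOpens} {l : Fin (N + 1)} (h : D.Good G hG W l) (m : Fin (N + 1)) :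
    ∃ v, (G.appLE V.1 W.1 (le_top.trans hG.ge)).hom (D.a m) =
      v * (G.appLE V.1 W.1 (le_top.trans hG.ge)).hom (D.a l) := by
  have hm : (G.appLE V.1 W.1 (le_top.trans hG.ge)).hom (D.a m) ∈ (C.comap G).ideal W := by
    rw [ModPairLib.ideal_comap C G V W (le_top.trans hG.ge)]
    exact Ideal.mem_map_of_mem _ (D.ideal_eq ▸ Ideal.subset_span ⟨m, rfl⟩)
  rw [show (C.comap G).ideal W = _ from h] at hm
  obtain ⟨v, hv⟩ := Ideal.mem_span_singleton'.1 hm
  exact ⟨v, hv.symm⟩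

theorem Good.nonempty (hC : BlowUp.IsEffCartierIdeal (C.comap G)) {W : Y.affineOpens} {l : Fin (N + 1)}
    (h : D.Good G hG W l) {y : Y} (hy : y ∈ W.1) : Nonempty (Zl j f V.1 l) := by
  by_contra hn
  haveI : Nonempty W.1 := ⟨⟨y, hy⟩⟩
  have h0 := h.mem_nzd hC
  rw [D.eq_zero l (not_nonempty_iff.1 hn), map_zero] at h0
  exact zero_notMem_nonZeroDivisors h0

variable (D hG) in
theorem exists_good (hC : BlowUp.IsEffCartierIdeal (C.comap G)) (y : Y) :
    ∃ (W : Y.affineOpens) (l : Fin (N + 1)), y ∈ W.1 ∧ D.Good G hG W l := by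
  obtain ⟨W, e, hyW, c, hc, hW⟩ :=
    ModPairLib.exists_chart_blowUp hC y V (show y ∈ G ⁻¹ᵁ V.1 by rw [hG]; trivial)
  rw [D.ideal_eq] at hc
  obtain ⟨r, hr⟩ := Submodule.mem_span_range_iff_exists_fun _ |>.1 hc
  let ψ := (G.appLE V.1 W.1 e).hom
  have hu : ∀ m, ∃ u, ψ (D.a m) = u * ψ c := fun m => by
    have hm : ψ (D.a m) ∈ (C.comap G).ideal W := by
      rw [ModPairLib.ideal_comap C G V W e]
      exact Ideal.mem_map_of_mem _ (D.ideal_eq ▸ Ideal.subset_span ⟨m, rfl⟩)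
    rw [hW] at hm
    obtain ⟨u, hu⟩ := Ideal.mem_span_singleton'.1 hm
    exact ⟨u, hu.symm⟩
  choose u hu using hu
  have hnz : ψ c ∈ nonZeroDivisors _ := ModPairLib.generator_mem_nonZeroDivisors hC hW
  have hsum : ∑ m, ψ (r m) * u m = 1 := by
    refine (mul_cancel_right_mem_nonZeroDivisors hnz).1 ?_
    rw [Finset.sum_mul, one_mul]
    conv_rhs => rw [← hr, map_sum]
    exact Finset.sum_congr rfl fun m _ => by rw [smul_eq_mul, map_mul, hu, mul_assoc]
  have hST : Ideal.span (Set.range u) = ⊤ :=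
    (Ideal.eq_top_iff_one _).2 (hsum ▸ sum_mem fun m _ => Ideal.mul_mem_left _ _ (Ideal.subset_span ⟨m, rfl⟩))
  obtain ⟨⟨_, l, rfl⟩, hyl⟩ := TopologicalSpace.Opens.mem_iSup.mp
    ((W.2.self_le_iSup_basicOpen_iff.mpr hST) hyW)
  let W' : Y.affineOpens := ⟨Y.basicOpen (u l), W.2.basicOpen _⟩
  have hle : W'.1 ≤ W.1 := Y.basicOpen_le _
  refine ⟨W', l, hyl, ?_⟩
  unfold Good
  have hval : (G.appLE V.1 W'.1 (le_top.trans hG.ge)).hom (D.a l) =
      Y.presheaf.map (homOfLE hle).op (u l) * Y.presheaf.map (homOfLE hle).op (ψ c) := by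
    rw [← map_mul, ← hu, ← CommRingCat.comp_apply, Scheme.Hom.appLE_map]
  rw [hval, ← (C.comap G).map_ideal (U := W') (V := W) hle, hW, Ideal.map_span, Set.image_singleton]
  exact (Ideal.span_singleton_mul_left_unit
    (RingedSpace.isUnit_res_basicOpen Y.toRingedSpace (u l)) _).symm

theorem Good.mem_Zl (hC : BlowUp.IsEffCartierIdeal (C.comap G)) {W : Y.affineOpens} {l : Fin (N + 1)}
    (h : D.Good G hG W l) (g : Y ⟶ Z) (hg : g ≫ f = G) {z : Y} (hz : z ∈ W.1) :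
    g z ∈ Zl j f V.1 l := by
  have hzV : g z ∈ f ⁻¹ᵁ V.1 := by
    show f (g z) ∈ V.1
    rw [← Scheme.Hom.comp_apply, hg]
    exact (show z ∈ G ⁻¹ᵁ V.1 by rw [hG]; trivial)
  obtain ⟨m, hm⟩ := PnChart.exists_mem_D N R (j (g z))
  obtain ⟨_, ⟨O, hO, rfl⟩, hzO, hOle⟩ := Y.isBasis_affineOpens.exists_subset_of_mem_open
    (show z ∈ W.1 ⊓ g ⁻¹ᵁ Zl j f V.1 m from ⟨hz, hm, hzV⟩) (W.1 ⊓ g ⁻¹ᵁ Zl j f V.1 m).2
  let W' : Y.affineOpens := ⟨O, hO⟩
  have h' : D.Good G hG W' l := h.res fun x hx => (hOle hx).1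
  obtain ⟨v, hv⟩ := h'.exists_coeff m
  have e : W'.1 ≤ g ⁻¹ᵁ Zl j f V.1 m := fun x hx => (hOle hx).2
  let α := (g.appLE (Zl j f V.1 m) W'.1 e).hom
  have hα : ∀ x, α ((f.appLE V.1 (Zl j f V.1 m) inf_le_right).hom x) =
      (G.appLE V.1 W'.1 (le_top.trans hG.ge)).hom x := fun x => by
    simp only [α, ← CommRingCat.comp_apply, Scheme.Hom.appLE_comp_appLE, hg]
  have hu : IsUnit (α (t j (inf_le_left : Zl j f V.1 m ≤ _) l)) := by
    refine IsUnit.of_mul_eq_one v ((mul_cancel_right_mem_nonZeroDivisors (h'.mem_nzd hC)).1 ?_)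
    rw [mul_assoc, ← hv, ← hα (D.a m), ← map_mul, ← D.rel, hα, one_mul]
  have hmem : z ∈ Y.basicOpen (α (t j (inf_le_left : Zl j f V.1 m ≤ _) l)) := by
    rw [Y.basicOpen_of_isUnit hu]
    exact hzO
  simp only [α, Scheme.Hom.appLE, CommRingCat.comp_apply, Scheme.basicOpen_res,
    ← Scheme.preimage_basicOpen] at hmem
  exact ⟨basicOpen_t_le j _ l hmem.2, hzV⟩

theorem Good.exists_lift (hC : BlowUp.IsEffCartierIdeal (C.comap G)) {W : Y.affineOpens} {l : Fin (N + 1)}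
    (h : D.Good G hG W l) {y : Y} (hy : y ∈ W.1) : ∃ g : W.1.toScheme ⟶ Z, g ≫ f = W.1.ι ≫ G := by
  choose v hv using h.exists_coeff
  obtain ⟨χ, hχ⟩ := exists_factor D.a l _ _ (D.surjective l) (D.injective l (h.nonempty hC hy)) (D.rel l)
    (G.appLE V.1 W.1 (le_top.trans hG.ge)).hom v hv (h.mem_nzd hC)
  refine ⟨W.2.isoSpec.hom ≫ Spec.map (CommRingCat.ofHom χ) ≫ (D.isAffineOpen l).fromSpec, ?_⟩
  rw [Category.assoc, Category.assoc, ← IsAffineOpen.SpecMap_appLE_fromSpec f V.2 (D.isAffineOpen l) inf_le_right,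
    ← Spec.map_comp_assoc,
    show f.appLE V.1 (Zl j f V.1 l) inf_le_right ≫ CommRingCat.ofHom χ = G.appLE V.1 W.1 (le_top.trans hG.ge)
      from CommRingCat.hom_ext hχ,
    IsAffineOpen.SpecMap_appLE_fromSpec G V.2 W.2, ← IsAffineOpen.isoSpec_inv_ι, Category.assoc,
    Iso.hom_inv_id_assoc]

variable (D hG) in
include D hG in
theorem lift_unique (hC : BlowUp.IsEffCartierIdeal (C.comap G)) {g g' : Y ⟶ Z} (hg : g ≫ f = G)
    (hg' : g' ≫ f = G) : g = g' := by
  choose W l hyW hW using D.exists_good hG hC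
  refine Scheme.Cover.hom_ext (Y.openCoverOfIsOpenCover (fun y => (W y).1)
    (top_le_iff.mp fun y _ => TopologicalSpace.Opens.mem_iSup.mpr ⟨y, hyW y⟩)) _ _ fun y => ?_
  show (W y).1.ι ≫ g = (W y).1.ι ≫ g'
  rw [← cancel_epi (W y).2.isoSpec.inv, IsAffineOpen.isoSpec_inv_ι_assoc, IsAffineOpen.isoSpec_inv_ι_assoc]
  have key : ∀ k : Y ⟶ Z, k ≫ f = G → ∃ χ : Γ(Z, Zl j f V.1 (l y)) →+* Γ(Y, (W y).1),
      χ.comp (f.appLE V.1 (Zl j f V.1 (l y)) inf_le_right).hom =
        (G.appLE V.1 (W y).1 (le_top.trans hG.ge)).hom ∧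
      (W y).2.fromSpec ≫ k = Spec.map (CommRingCat.ofHom χ) ≫ (D.isAffineOpen (l y)).fromSpec := by
    intro k hk
    have e : (W y).1 ≤ k ⁻¹ᵁ Zl j f V.1 (l y) := fun z hz => (hW y).mem_Zl hC k hk hz
    refine ⟨(k.appLE _ _ e).hom, ?_, ?_⟩
    · rw [← CommRingCat.hom_comp, Scheme.Hom.appLE_comp_appLE]
      simp only [hk]
    · exact (IsAffineOpen.SpecMap_appLE_fromSpec k (D.isAffineOpen (l y)) (W y).2 e).symm
  obtain ⟨χ, h1, h2⟩ := key g hg
  obtain ⟨χ', h1', h2'⟩ := key g' hg'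
  rw [h2, h2', hom_ext_gen D.a (l y) _ _ (D.surjective _) (D.rel _) _ ((hW y).mem_nzd hC) h1 h1']

variable (D hG) in
include D hG in
theorem exists_lift (hC : BlowUp.IsEffCartierIdeal (C.comap G)) : ∃ g : Y ⟶ Z, g ≫ f = G := by
  choose W l hyW hW using D.exists_good hG hC
  choose g hg using fun y => (hW y).exists_lift hC (hyW y)
  let 𝒰 := Y.openCoverOfIsOpenCover (fun y => (W y).1)
    (top_le_iff.mp fun y _ => TopologicalSpace.Opens.mem_iSup.mpr ⟨y, hyW y⟩)
  refine ⟨𝒰.glueMorphisms g fun p q => ?_, 𝒰.hom_ext _ _ fun y => ?_⟩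
  · haveI : IsOpenImmersion (𝒰.f p) := inferInstanceAs (IsOpenImmersion (W p).1.ι)
    haveI : IsOpenImmersion (𝒰.f q) := inferInstanceAs (IsOpenImmersion (W q).1.ι)
    let s := pullback.fst (𝒰.f p) (𝒰.f q) ≫ 𝒰.f p
    haveI : IsOpenImmersion s := inferInstance
    refine D.lift_unique (G := s ≫ G) (by rw [Scheme.Hom.comp_preimage, hG]; rfl)
      (by rw [Scheme.IdealSheafData.comap_comp]; exact BlowUpLib.isEffCartier_comap_flat s hC) ?_ ?_
    · rw [Category.assoc, hg, Category.assoc]; rfl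
    · rw [Category.assoc, hg]
      show pullback.snd (𝒰.f p) (𝒰.f q) ≫ 𝒰.f q ≫ G = _
      rw [← pullback.condition_assoc]
      exact (Category.assoc _ _ _).symm
  · rw [𝒰.ι_glueMorphisms_assoc]
    exact hg y

variable (D)
include D

/-- The model is the blowing up over `V`. -/
theorem isBlowUp [IsIntegral Z] : BlowUp.IsBlowUp (f ∣_ V.1) (C.comap V.1.ι) := by
  refine ⟨?_, fun Y g hg => ?_⟩
  · intro z
    obtain ⟨l, hl⟩ := PnChart.exists_mem_D N R (j z.1)
    have hle : Zl j f V.1 l ≤ f ⁻¹ᵁ V.1 := inf_le_right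
    let U : (f ⁻¹ᵁ V.1).toScheme.affineOpens :=
      ⟨(f ⁻¹ᵁ V.1).ι ⁻¹ᵁ Zl j f V.1 l, (D.isAffineOpen l).preimage_of_isOpenImmersion _
        (by rw [Scheme.Opens.opensRange_ι]; exact hle)⟩
    have hne : Nonempty (Zl j f V.1 l) := ⟨⟨z.1, hl, z.2⟩⟩
    haveI := hne
    refine ⟨U, ⟨hl, z.2⟩, ?_⟩
    let ε := (f ⁻¹ᵁ V.1).ι.appLE (Zl j f V.1 l) U.1 le_rfl
    haveI hε : IsIso ε := by
      show IsIso ((f ⁻¹ᵁ V.1).ι.appLE _ _ _)
      rw [← Scheme.Hom.app_eq_appLE]
      exact Scheme.Hom.isIso_app _ _ (by rw [Scheme.Opens.opensRange_ι]; exact hle)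
    have hbij := ConcreteCategory.bijective_of_isIso ε
    let φ := (f.appLE V.1 (Zl j f V.1 l) inf_le_right).hom
    have hideal : ((C.comap V.1.ι).comap (f ∣_ V.1)).ideal U = Ideal.span {ε.hom (φ (D.a l))} := by
      rw [← Scheme.IdealSheafData.comap_comp, morphismRestrict_ι,
        ModPairLib.ideal_comap C _ V U (fun x hx => hx.2), D.ideal_eq, Ideal.map_span, ← Set.range_comp,
        ← Scheme.Hom.appLE_comp_appLE _ _ V.1 (Zl j f V.1 l) U.1 inf_le_right le_rfl]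
      refine le_antisymm (Ideal.span_le.2 ?_) (Ideal.span_mono ?_)
      · rintro _ ⟨m, rfl⟩
        refine Ideal.mem_span_singleton'.2 ⟨ε.hom (t j (inf_le_left : Zl j f V.1 l ≤ _) m), ?_⟩
        rw [← map_mul, ← D.rel]
        rfl
      · exact Set.singleton_subset_iff.2 ⟨l, rfl⟩
    refine ⟨_, mem_nonZeroDivisors_iff_right.2 fun x hx => ?_, hideal⟩
    obtain ⟨x, rfl⟩ := hbij.2 x
    have h0 : x * φ (D.a l) = 0 := hbij.1 ((map_mul ε.hom _ _).trans (hx.trans (map_zero ε.hom).symm))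
    have hal : φ (D.a l) ≠ 0 := fun hal => by
      have hall : ∀ m, D.a m = 0 := fun m => D.injective l hne (by
        rw [D.rel, map_zero, show (f.appLE V.1 (Zl j f V.1 l) inf_le_right).hom (D.a l) = 0 from hal, mul_zero])
      exact absurd (show C.ideal V = ⊥ from D.ideal_eq.trans (by simp [funext hall])) D.ne_bot
    rw [(mul_eq_zero.1 h0).resolve_right hal, map_zero]
  · rw [← Scheme.IdealSheafData.comap_comp] at hg
    have hG : (g ≫ V.1.ι) ⁻¹ᵁ V.1 = ⊤ := by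
      rw [Scheme.Hom.comp_preimage, Scheme.Opens.ι_preimage_self]; rfl
    obtain ⟨k, hk⟩ := D.exists_lift hG hg
    have H := isPullback_morphismRestrict f V.1
    refine ⟨H.lift g k hk.symm, H.lift_fst _ _ _, fun h hh => H.hom_ext ?_ ?_⟩
    · rw [H.lift_fst]; exact hh
    · rw [H.lift_snd]
      refine D.lift_unique hG hg ?_ hk
      dsimp only at hh
      rw [Category.assoc, ← morphismRestrict_ι, reassoc_of% hh]

end LocalData

end Groth.Agent.BirBlow22
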